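import Groth.Prelude.Def_Red
import Mathlib.AlgebraicGeometry.Morphisms.Integral
import Mathlib.AlgebraicGeometry.Morphisms.Preimmersion
import Mathlib.AlgebraicGeometry.Morphisms.Flat
import Mathlib.RingTheory.Valuation.ValuationSubring
import Mathlib.RingTheory.Valuation.LocalSubring
import Mathlib.RingTheory.Flat.Localization
import Mathlib.RingTheory.Algebraic.Integral

/-!
A valuation ring joining the geometric points over a specialization, with the closed geometric point
over the residue field itself.
-/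

set_option autoImplicit false

universe u

open CategoryTheory CategoryTheory.Limits AlgebraicGeometry

noncomputable section

namespace Groth.Sga3.SubSpec

/-- A valuation ring dominating a local ring with algebraic residue extension. -/
theorem exists_dominating_algebraic {O : Type u} [CommRing O] [IsLocalRing O] {K : Type u} [Field K] (θ : O →+* K) :
    ∃ (A : ValuationSubring K) (h : ∀ x, θ x ∈ A.toSubring),
      ∃ _ : IsLocalHom (θ.codRestrict A.toSubring h), (IsLocalRing.ResidueField.map (θ.codRestrict A.toSubring h) :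
        IsLocalRing.ResidueField O →+* IsLocalRing.ResidueField A).IsIntegral := by
  classical
  let 𝒮 : Set (ValuationSubring K)ᵒᵈ := {A | (∀ x, θ x ∈ (OrderDual.ofDual A).toSubring) ∧
    ∀ x ∈ IsLocalRing.maximalIdeal O, θ x ∈ (OrderDual.ofDual A).nonunits}
  obtain ⟨A₀, hA₀, hloc₀⟩ := IsLocalRing.exists_factor_valuationRing θ
  have hA₀' : OrderDual.toDual A₀ ∈ 𝒮 := ⟨hA₀, fun x hx => by
    rw [ValuationSubring.mem_nonunits_iff_exists_mem_maximalIdeal]
    exact ⟨hA₀ x, fun hu => hx (hloc₀.1 x hu)⟩⟩
  obtain ⟨m, hm⟩ := zorn_le₀ 𝒮 fun c hc hch => by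
    rcases c.eq_empty_or_nonempty with rfl | ⟨B₀, hB₀⟩
    · exact ⟨_, hA₀', fun z hz => hz.elim⟩
    let I : ValuationSubring K :=
      { carrier := {x | ∀ B ∈ c, x ∈ OrderDual.ofDual B}
        mul_mem' := fun ha hb B hB => mul_mem (ha B hB) (hb B hB)
        one_mem' := fun B _ => one_mem _
        add_mem' := fun ha hb B hB => add_mem (ha B hB) (hb B hB)
        zero_mem' := fun B _ => zero_mem _
        neg_mem' := fun ha B hB => neg_mem (ha B hB)
        mem_or_inv_mem' := fun x => by
          by_contra h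
          rw [not_or] at h
          obtain ⟨h1, h2⟩ := h
          simp only [Subsemigroup.mem_mk, Submonoid.mem_mk, AddSubmonoid.mem_mk, AddSubgroup.mem_mk, Subring.mem_mk,
            Set.mem_ofPred, Set.mem_setOf_eq, not_forall] at h1 h2
          obtain ⟨B₁, hB₁, hx₁⟩ := h1
          obtain ⟨B₂, hB₂, hx₂⟩ := h2
          rcases hch.total hB₁ hB₂ with h | h
          · exact (OrderDual.ofDual B₂).mem_or_inv_mem x |>.elim (fun h' => hx₁ (h h')) hx₂
          · exact (OrderDual.ofDual B₁).mem_or_inv_mem x |>.elim hx₁ (fun h' => hx₂ (h h')) }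
    refine ⟨OrderDual.toDual I, ⟨fun x B hB => (hc hB).1 x, fun x hx => ?_⟩, fun B hB y hy => hy B hB⟩
    have h := (hc hB₀).2 x hx
    show θ x ∈ I.nonunits
    rw [ValuationSubring.mem_nonunits_iff_or] at h ⊢
    exact h.imp_right fun h' hI => h' (hI B₀ hB₀)
  let A : ValuationSubring K := OrderDual.ofDual m
  obtain ⟨hθ, hdom⟩ := hm.prop
  haveI hloc : IsLocalHom (θ.codRestrict A.toSubring hθ) := ⟨fun x hx => by
    by_contra hu
    obtain ⟨_, h⟩ := ValuationSubring.mem_nonunits_iff_exists_mem_maximalIdeal.1 (hdom x hu)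
    exact h hx⟩
  refine ⟨A, hθ, hloc, fun t => ?_⟩
  let res : IsLocalRing.ResidueField O →+* IsLocalRing.ResidueField A :=
    IsLocalRing.ResidueField.map (θ.codRestrict A.toSubring hθ)
  letI := res.toAlgebra
  show IsIntegral (IsLocalRing.ResidueField O) t
  rw [← isAlgebraic_iff_isIntegral]
  by_contra ht
  have hinj := transcendental_iff_injective.1 ht
  let φ : Polynomial (IsLocalRing.ResidueField O) →+* IsLocalRing.ResidueField A := (Polynomial.aeval t).toRingHom
  haveI : (RingHom.ker (Polynomial.evalRingHom (0 : IsLocalRing.ResidueField O))).IsPrime := RingHom.ker_isPrime _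
  let P := RingHom.ker (Polynomial.evalRingHom (0 : IsLocalRing.ResidueField O))
  let ψ : Localization.AtPrime P →+* IsLocalRing.ResidueField A :=
    IsLocalization.lift (M := P.primeCompl) (g := φ) fun y => isUnit_iff_ne_zero.2 fun h0 => y.2 (by
      rw [hinj (a₁ := (y : Polynomial _)) (a₂ := 0) (h0.trans (map_zero _).symm)]
      exact zero_mem _)
  obtain ⟨W, hW, hWloc⟩ := IsLocalRing.exists_factor_valuationRing ψ
  have htW : t ∈ W.nonunits := by
    rw [ValuationSubring.mem_nonunits_iff_exists_mem_maximalIdeal]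
    have e : ψ (algebraMap _ _ (Polynomial.X : Polynomial (IsLocalRing.ResidueField O))) = t := by
      rw [IsLocalization.lift_eq]
      exact Polynomial.aeval_X _
    refine ⟨e ▸ hW _, fun hu => ?_⟩
    have heq : ψ.codRestrict W.toSubring hW
        (algebraMap _ _ (Polynomial.X : Polynomial (IsLocalRing.ResidueField O))) = ⟨t, e ▸ hW _⟩ :=
      Subtype.ext e
    have := hWloc.1 (algebraMap _ _ (Polynomial.X : Polynomial (IsLocalRing.ResidueField O))) (heq.symm ▸ hu)
    rw [IsLocalization.AtPrime.isUnit_to_map_iff (Localization.AtPrime P) P] at this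
    exact this (by simp [P])
  let π : A →+* IsLocalRing.ResidueField A := IsLocalRing.residue A
  let A' : ValuationSubring K :=
    { ((W.toSubring.comap π).map A.subtype : Subring K) with
      mem_or_inv_mem' := fun x => by
        by_cases hxA : x ∈ A
        · rcases W.mem_or_inv_mem (π ⟨x, hxA⟩) with h | h
          · exact Or.inl ⟨⟨x, hxA⟩, h, rfl⟩
          · by_cases hu : IsUnit (⟨x, hxA⟩ : A)
            · obtain ⟨v, hv⟩ := hu
              refine Or.inr ⟨↑v⁻¹, ?_, ?_⟩
              · show π ↑v⁻¹ ∈ W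
                rw [map_units_inv, hv]
                exact h
              · refine (inv_eq_of_mul_eq_one_right ?_).symm
                rw [show x = A.subtype ↑v by rw [hv]; rfl, ← map_mul, Units.mul_inv, map_one]
            · refine Or.inl ⟨⟨x, hxA⟩, ?_, rfl⟩
              show π ⟨x, hxA⟩ ∈ W
              rw [show π ⟨x, hxA⟩ = 0 from Ideal.Quotient.eq_zero_iff_mem.2 hu]
              exact zero_mem _
        · have hinv : x⁻¹ ∈ A := (A.mem_or_inv_mem x).resolve_left hxA
          refine Or.inr ⟨⟨x⁻¹, hinv⟩, ?_, rfl⟩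
          show π ⟨x⁻¹, hinv⟩ ∈ W
          obtain ⟨h', hh⟩ := ValuationSubring.mem_nonunits_iff_exists_mem_maximalIdeal.1
            ((ValuationSubring.inv_mem_nonunits_iff A).2 (Or.inr hxA))
          rw [show π ⟨x⁻¹, hinv⟩ = 0 from Ideal.Quotient.eq_zero_iff_mem.2 hh]
          exact zero_mem _ }
  have hle : A' ≤ A := by
    rintro _ ⟨a, -, rfl⟩
    exact a.2
  have hmem : OrderDual.toDual A' ∈ 𝒮 := by
    refine ⟨fun x => ⟨⟨θ x, hθ x⟩, ?_, rfl⟩, fun x hx => ?_⟩
    · show π _ ∈ W
      have e : ψ (algebraMap _ _ (Polynomial.C (IsLocalRing.residue O x))) = π ⟨θ x, hθ x⟩ := by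
        rw [IsLocalization.lift_eq]
        exact (Polynomial.aeval_C _ _).trans (IsLocalRing.ResidueField.map_residue _ x)
      exact e ▸ hW _
    · have h := hdom x hx
      show θ x ∈ A'.nonunits
      rw [ValuationSubring.mem_nonunits_iff_or] at h ⊢
      exact h.imp_right fun h' hI => h' (hle hI)
  have heq : A ≤ A' := hm.le_of_ge hmem hle
  obtain ⟨a, ha⟩ := IsLocalRing.residue_surjective t⁻¹
  obtain ⟨b, hb, hbe⟩ := heq a.2
  obtain rfl : b = a := Subtype.ext hbe
  have htinv : t⁻¹ ∈ W := ha ▸ hb
  rw [ValuationSubring.mem_nonunits_iff_or] at htW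
  rcases htW with rfl | h
  · exact ht isAlgebraic_zero
  · exact h htinv

theorem exists_valuation_geomPt {S : Scheme.{u}} {s s' : S} (hs : s ⤳ s') :
    ∃ (A : Type u) (_ : CommRing A) (_ : IsDomain A) (_ : ValuationRing A)
      (t : Spec (CommRingCat.of A) ⟶ S)
      (t₁ : Spec (CommRingCat.of (AlgebraicClosure (S.residueField s))) ⟶ Spec (CommRingCat.of A))
      (t₀ : Spec (CommRingCat.of (AlgebraicClosure (S.residueField s'))) ⟶ Spec (CommRingCat.of A)),
      IsPreimmersion t₁ ∧ Flat t₁ ∧ IsIntegralHom t₀ ∧ t₁ ≫ t = Red.geomPt s ∧ t₀ ≫ t = Red.geomPt s' ∧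
      (∀ p, t₁.base p = (⟨⊥, Ideal.isPrime_bot⟩ : PrimeSpectrum A)) ∧
      (∀ p, t₀.base p = IsLocalRing.closedPoint A) := by
  let K := AlgebraicClosure (S.residueField s)
  let K' := AlgebraicClosure (S.residueField s')
  let θ : S.presheaf.stalk s' ⟶ CommRingCat.of K :=
    S.presheaf.stalkSpecializes hs ≫ S.residue s ≫ CommRingCat.ofHom (algebraMap (S.residueField s) K)
  obtain ⟨A, hA, hloc, hint⟩ := exists_dominating_algebraic θ.hom
  let φ : S.presheaf.stalk s' →+* A := θ.hom.codRestrict A.toSubring hA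
  haveI : IsLocalHom φ := hloc
  let k₀ := IsLocalRing.ResidueField A
  letI : Algebra (S.residueField s') k₀ := (IsLocalRing.ResidueField.map φ).toAlgebra
  haveI : Algebra.IsIntegral (S.residueField s') k₀ := ⟨hint⟩
  haveI : Algebra.IsAlgebraic (S.residueField s') k₀ := Algebra.IsIntegral.isAlgebraic
  let l : k₀ →ₐ[S.residueField s'] K' := IsAlgClosed.lift
  let a : A →+* K' := l.toRingHom.comp (IsLocalRing.residue A)
  refine ⟨A, inferInstance, inferInstance, inferInstance, Spec.map (CommRingCat.ofHom φ) ≫ S.fromSpecStalk s',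
    Spec.map (CommRingCat.ofHom A.subtype), Spec.map (CommRingCat.ofHom a), ?_, ?_, ?_, ?_, ?_, ?_, ?_⟩
  · exact IsPreimmersion.of_isLocalization (S := K) (nonZeroDivisors A)
  · rw [HasRingHomProperty.Spec_iff (P := @Flat)]
    show (A.subtype).Flat
    exact RingHom.flat_algebraMap_iff.2 (IsLocalization.flat (S := K) (nonZeroDivisors A))
  · rw [IsIntegralHom.SpecMap_iff]
    show a.IsIntegral
    refine RingHom.IsIntegral.trans (IsLocalRing.residue A) l.toRingHom
      (RingHom.isIntegral_of_surjective _ IsLocalRing.residue_surjective) (fun x => ?_)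
    letI : Algebra k₀ K' := l.toRingHom.toAlgebra
    haveI : IsScalarTower (S.residueField s') k₀ K' := IsScalarTower.of_algebraMap_eq fun y => (l.commutes y).symm
    exact (Algebra.IsIntegral.isIntegral (R := S.residueField s') x).tower_top
  · rw [← Spec.map_comp_assoc,
      show CommRingCat.ofHom φ ≫ CommRingCat.ofHom A.subtype = θ from rfl, Spec.map_comp, Spec.map_comp,
      Category.assoc, Category.assoc, Scheme.SpecMap_stalkSpecializes_fromSpecStalk]
    rfl
  · have h1 : CommRingCat.ofHom φ ≫ CommRingCat.ofHom a =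
        S.residue s' ≫ CommRingCat.ofHom (algebraMap (S.residueField s') K') := by
      ext x
      exact (congrArg l (IsLocalRing.ResidueField.map_residue φ x).symm).trans (l.commutes (S.residue s' x))
    rw [← Spec.map_comp_assoc, h1, Spec.map_comp, Category.assoc]
    rfl
  · intro p
    refine PrimeSpectrum.ext ?_
    show p.asIdeal.comap A.subtype = ⊥
    rw [show p.asIdeal = ⊥ from (Ideal.eq_bot_or_top _).resolve_right p.isPrime.ne_top, ← RingHom.ker_eq_comap_bot]
    exact (RingHom.injective_iff_ker_eq_bot _).1 Subtype.val_injective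
  · intro p
    refine PrimeSpectrum.ext ?_
    show p.asIdeal.comap a = IsLocalRing.maximalIdeal A
    rw [show p.asIdeal = ⊥ from (Ideal.eq_bot_or_top _).resolve_right p.isPrime.ne_top, ← RingHom.ker_eq_comap_bot,
      RingHom.ker_comp_of_injective _ l.toRingHom.injective]
    exact IsLocalRing.ker_residue

end Groth.Sga3.SubSpec
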