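import Groth.Agent.Sga3.SubSpec.Main
import Groth.Agent.Sga3.SubSpec.Res

/-!
Specialization of smooth connected subgroups of geometric fibres.
-/

set_option autoImplicit false
set_option backward.isDefEq.respectTransparency false

universe u

open CategoryTheory CategoryTheory.Limits MonoidalCategory CartesianMonoidalCategory MonObj GrpObj AlgebraicGeometry

noncomputable section

namespace Groth.Sga3.SubSpec

open Groth.Sga3.CommSpread

/-- Base change along a composite, as groups. -/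
theorem exists_bc_iso {S S' T : Scheme.{u}} (t₁ : T ⟶ S') (t : S' ⟶ S) {g : T ⟶ S} (h : t₁ ≫ t = g) (G : Over S)
    [GrpObj G] : ∃ φ : Red.bc g G ≅ Red.bc t₁ (Red.bc t G), IsMonHom φ.hom ∧ IsMonHom φ.inv := by
  subst h
  have R : IsPullback (pullback.fst (Red.bc t G).hom t₁ ≫ pullback.fst G.hom t) (Red.bc t₁ (Red.bc t G)).hom G.hom
      (t₁ ≫ t) := (IsPullback.of_hasPullback (Red.bc t G).hom t₁).paste_horiz (IsPullback.of_hasPullback G.hom t)
  let φ : Red.bc (t₁ ≫ t) G ≅ Red.bc t₁ (Red.bc t G) := Over.isoMk R.isoPullback.symm R.isoPullback_inv_snd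
  have hfst : φ.hom.left ≫ pullback.fst (Red.bc t G).hom t₁ ≫ pullback.fst G.hom t = pullback.fst G.hom (t₁ ≫ t) :=
    R.isoPullback_inv_fst
  haveI : IsMonHom φ.hom := Groth.AlgGrp1.isMonHom_of_points _ fun X a b => by
    let Ψ := fun y : X ⟶ Red.bc t₁ (Red.bc t G) =>
      (adjGrp t (push t₁ X) G).symm ((adjGrp t₁ X (Red.bc t G)).symm y)
    let Φ := fun y : X ⟶ Red.bc (t₁ ≫ t) G => (adjGrp (t₁ ≫ t) X G).symm y
    let e : push t (push t₁ X) ⟶ push (t₁ ≫ t) X := Over.homMk (𝟙 X.left) (by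
      show 𝟙 X.left ≫ X.hom ≫ t₁ ≫ t = (X.hom ≫ t₁) ≫ t
      rw [Category.id_comp, Category.assoc])
    have key : ∀ y, Ψ (y ≫ φ.hom) = e ≫ Φ y := fun y => by
      refine Over.OverMorphism.ext ?_
      show ((adj t).symm ((adj t₁).symm (y ≫ φ.hom))).left = 𝟙 X.left ≫ ((adj (t₁ ≫ t)).symm y).left
      rw [adj_symm_left, adj_symm_left, adj_symm_left, Category.id_comp, Over.comp_left, Category.assoc,
        Category.assoc, hfst]
    refine (adjGrp t₁ X (Red.bc t G)).symm.injective ((adjGrp t (push t₁ X) G).symm.injective ?_)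
    show Ψ ((a * b) ≫ φ.hom) = Ψ ((a ≫ φ.hom) * (b ≫ φ.hom))
    rw [show Ψ ((a ≫ φ.hom) * (b ≫ φ.hom)) = Ψ (a ≫ φ.hom) * Ψ (b ≫ φ.hom) by simp only [Ψ, map_mul], key, key, key,
      show Φ (a * b) = Φ a * Φ b by simp only [Φ, map_mul], MonObj.comp_mul]
  refine ⟨φ, inferInstance, inferInstance⟩

/-- A smooth connected subgroup of a geometric fibre specializes to one of at least the same dimension satisfying
the same commutator identities. -/
theorem exists_special_geom {S : Scheme.{u}} (G : Over S) [GrpObj G] [LocallyOfFinitePresentation G.hom]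
    [QuasiCompact G.hom] [QuasiSeparated G.hom] {s s' : S} (hs : s ⤳ s')
    (N : Over (Spec (CommRingCat.of (AlgebraicClosure (S.residueField s))))) [GrpObj N]
    (i : N ⟶ Red.geomFibre s G) [IsMonHom i] [IsClosedImmersion i.left] [Smooth N.hom] [ConnectedSpace N.left] :
    ∃ (H : Over (Spec (CommRingCat.of (AlgebraicClosure (S.residueField s'))))) (_ : GrpObj H)
      (d : H ⟶ Red.geomFibre s' G), IsMonHom d ∧ IsClosedImmersion d.left ∧ Smooth H.hom ∧ ConnectedSpace H.left ∧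
      topologicalKrullDim ↥N.left ≤ topologicalKrullDim ↥H.left ∧
      ∀ τ : CTree, cMap (𝟙 N) τ = 1 → cMap (𝟙 H) τ = 1 := by
  obtain ⟨A, _, _, _, t, t₁, t₀, _, _, _, ht₁, ht₀, hp₁, hp₀⟩ := exists_valuation_geomPt hs
  obtain ⟨φ₁, hφ₁, -⟩ := exists_bc_iso t₁ t ht₁ G
  obtain ⟨φ₀, hφ₀, hφ₀'⟩ := exists_bc_iso t₀ t ht₀ G
  haveI : LocallyOfFiniteType (Red.bc t G).hom := inferInstanceAs (LocallyOfFiniteType (pullback.snd G.hom t))
  haveI : QuasiCompact (Red.bc t G).hom := inferInstanceAs (QuasiCompact (pullback.snd G.hom t))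
  haveI : QuasiSeparated (Red.bc t G).hom := inferInstanceAs (QuasiSeparated (pullback.snd G.hom t))
  haveI : IsIso φ₁.hom.left := inferInstanceAs (IsIso ((Over.forget _).map φ₁.hom))
  haveI : IsIso φ₀.inv.left := inferInstanceAs (IsIso ((Over.forget _).map φ₀.inv))
  haveI : IsClosedImmersion (i ≫ φ₁.hom).left := inferInstanceAs (IsClosedImmersion (i.left ≫ φ₁.hom.left))
  obtain ⟨H, _, d, _, _, h₁, h₂, h₃, h₄⟩ :=
    exists_special_sub (Red.bc t G) t₁ t₀ hp₁ hp₀ N (i ≫ φ₁.hom)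
  haveI : IsClosedImmersion (d ≫ φ₀.inv).left := inferInstanceAs (IsClosedImmersion (d.left ≫ φ₀.inv.left))
  exact ⟨H, inferInstance, d ≫ φ₀.inv, inferInstance, inferInstance, h₁, h₂, h₃, h₄⟩

end Groth.Sga3.SubSpec
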