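import Groth.Agent.Sga3.SubSpec.Geom
import Groth.Agent.AlgGrp1.BorelField

/-!
Smooth connected subgroups descend along extensions of algebraically closed fields, keeping dimension
and commutator identities.
-/

set_option autoImplicit false
set_option backward.isDefEq.respectTransparency false

universe u

open CategoryTheory CategoryTheory.Limits MonoidalCategory CartesianMonoidalCategory MonObj GrpObj AlgebraicGeometry

noncomputable section

namespace Groth.Sga3.SubSpec

open Groth.Sga3.CommSpread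

theorem exists_bc_id_iso {S : Scheme.{u}} (G : Over S) [GrpObj G] :
    ∃ e : Red.bc (𝟙 S) G ≅ G, IsMonHom e.hom := by
  let e : Red.bc (𝟙 S) G ≅ G := Over.isoMk (asIso (pullback.fst G.hom (𝟙 S))) (by
    show pullback.fst G.hom (𝟙 S) ≫ G.hom = pullback.snd G.hom (𝟙 S)
    rw [pullback.condition, Category.comp_id])
  refine ⟨e, Groth.AlgGrp1.isMonHom_of_points _ fun T a b => ?_⟩
  let c : T ⟶ push (𝟙 S) T := Over.homMk (𝟙 T.left) (by
    show 𝟙 T.left ≫ T.hom ≫ 𝟙 S = T.hom
    simp)
  have key : ∀ y : T ⟶ Red.bc (𝟙 S) G, y ≫ e.hom = c ≫ (adjGrp (𝟙 S) T G).symm y := fun y => by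
    refine Over.OverMorphism.ext ?_
    show y.left ≫ pullback.fst G.hom (𝟙 S) = 𝟙 T.left ≫ ((adj (𝟙 S)).symm y).left
    rw [adj_symm_left, Category.id_comp]
  rw [key, key, key, map_mul, MonObj.comp_mul]

/-- A smooth connected subgroup over an algebraically closed extension gives one over the ground field of at
least the same dimension, with the same commutator identities. -/
theorem exists_sub_of_field_ext {k F : Type u} [Field k] [IsAlgClosed k] [Field F] [IsAlgClosed F] (φ : k →+* F)
    (G : Over (Spec (CommRingCat.of k))) [GrpObj G] [LocallyOfFiniteType G.hom] [QuasiCompact G.hom]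
    (N : Over (Spec (CommRingCat.of F))) [GrpObj N] (i : N ⟶ Red.bc (Spec.map (CommRingCat.ofHom φ)) G) [IsMonHom i]
    [IsClosedImmersion i.left] [Smooth N.hom] [ConnectedSpace N.left] :
    ∃ (H : Over (Spec (CommRingCat.of k))) (_ : GrpObj H) (d : H ⟶ G),
      IsMonHom d ∧ IsClosedImmersion d.left ∧ Smooth H.hom ∧ ConnectedSpace H.left ∧
      topologicalKrullDim ↥N.left ≤ topologicalKrullDim ↥H.left ∧
      ∀ τ : CTree, cMap (𝟙 N) τ = 1 → cMap (𝟙 H) τ = 1 := by
  obtain ⟨A, hA, hloc, hint⟩ := exists_dominating_algebraic φ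
  let φ' : k →+* A := φ.codRestrict A.toSubring hA
  haveI : IsLocalHom φ' := hloc
  let res : IsLocalRing.ResidueField k →+* IsLocalRing.ResidueField A := IsLocalRing.ResidueField.map φ'
  let ρ : k →+* IsLocalRing.ResidueField A := (IsLocalRing.residue A).comp φ'
  have hρ : ρ.IsIntegral := by
    rw [show ρ = res.comp (IsLocalRing.residue k) from RingHom.ext fun x => rfl]
    exact RingHom.IsIntegral.trans _ _ (RingHom.isIntegral_of_surjective _ IsLocalRing.residue_surjective) hint
  let er : k ≃+* IsLocalRing.ResidueField A :=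
    RingEquiv.ofBijective ρ (IsAlgClosed.ringHom_bijective_of_isIntegral ρ hρ)
  let a : A →+* k := er.symm.toRingHom.comp (IsLocalRing.residue A)
  let t : Spec (CommRingCat.of A) ⟶ Spec (CommRingCat.of k) := Spec.map (CommRingCat.ofHom φ')
  let t₁ : Spec (CommRingCat.of F) ⟶ Spec (CommRingCat.of A) := Spec.map (CommRingCat.ofHom A.subtype)
  let t₀ : Spec (CommRingCat.of k) ⟶ Spec (CommRingCat.of A) := Spec.map (CommRingCat.ofHom a)
  haveI : IsPreimmersion t₁ := IsPreimmersion.of_isLocalization (S := F) (nonZeroDivisors A)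
  haveI : Flat t₁ := by
    rw [HasRingHomProperty.Spec_iff (P := @Flat)]
    show (A.subtype).Flat
    exact RingHom.flat_algebraMap_iff.2 (IsLocalization.flat (S := F) (nonZeroDivisors A))
  haveI : IsIntegralHom t₀ := by
    rw [IsIntegralHom.SpecMap_iff]
    exact RingHom.isIntegral_of_surjective _ (er.symm.surjective.comp IsLocalRing.residue_surjective)
  have h₁ : t₁ ≫ t = Spec.map (CommRingCat.ofHom φ) := by
    rw [← Spec.map_comp]; rfl
  have h₀ : t₀ ≫ t = 𝟙 _ := by
    rw [← Spec.map_comp, ← CommRingCat.ofHom_comp, show a.comp φ' = RingHom.id k from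
      RingHom.ext fun x => er.symm_apply_apply x]
    exact Spec.map_id _
  have hp₁ : ∀ p, t₁.base p = (⟨⊥, Ideal.isPrime_bot⟩ : PrimeSpectrum A) := fun p => by
    refine PrimeSpectrum.ext ?_
    show p.asIdeal.comap A.subtype = ⊥
    rw [show p.asIdeal = ⊥ from (Ideal.eq_bot_or_top _).resolve_right p.isPrime.ne_top, ← RingHom.ker_eq_comap_bot]
    exact (RingHom.injective_iff_ker_eq_bot _).1 Subtype.val_injective
  have hp₀ : ∀ p, t₀.base p = IsLocalRing.closedPoint A := fun p => by
    refine PrimeSpectrum.ext ?_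
    show p.asIdeal.comap a = IsLocalRing.maximalIdeal A
    rw [show p.asIdeal = ⊥ from (Ideal.eq_bot_or_top _).resolve_right p.isPrime.ne_top, ← RingHom.ker_eq_comap_bot,
      RingHom.ker_comp_of_injective _ er.symm.injective]
    exact IsLocalRing.ker_residue
  obtain ⟨φ₁, hφ₁, -⟩ := exists_bc_iso t₁ t h₁ G
  obtain ⟨φ₀, hφ₀, hφ₀'⟩ := exists_bc_iso t₀ t h₀ G
  obtain ⟨e, he⟩ := exists_bc_id_iso G
  haveI : LocallyOfFiniteType (Red.bc t G).hom := inferInstanceAs (LocallyOfFiniteType (pullback.snd G.hom t))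
  haveI : QuasiCompact (Red.bc t G).hom := inferInstanceAs (QuasiCompact (pullback.snd G.hom t))
  haveI := Groth.AlgGrp1.isSeparated_grpObj G
  haveI : QuasiSeparated (Red.bc t G).hom := inferInstanceAs (QuasiSeparated (pullback.snd G.hom t))
  haveI : IsIso φ₁.hom.left := inferInstanceAs (IsIso ((Over.forget _).map φ₁.hom))
  haveI : IsIso (φ₀.inv ≫ e.hom).left := inferInstanceAs (IsIso ((Over.forget _).map (φ₀.inv ≫ e.hom)))
  haveI : IsClosedImmersion (i ≫ φ₁.hom).left := inferInstanceAs (IsClosedImmersion (i.left ≫ φ₁.hom.left))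
  obtain ⟨H, _, d, _, _, h₁', h₂, h₃, h₄⟩ :=
    exists_special_sub (Red.bc t G) t₁ t₀ hp₁ hp₀ N (i ≫ φ₁.hom)
  haveI : IsClosedImmersion (d ≫ φ₀.inv ≫ e.hom).left :=
    inferInstanceAs (IsClosedImmersion (d.left ≫ (φ₀.inv ≫ e.hom).left))
  exact ⟨H, inferInstance, d ≫ φ₀.inv ≫ e.hom, inferInstance, inferInstance, h₁', h₂, h₃, h₄⟩

end Groth.Sga3.SubSpec
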