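import Groth.Agent.GrpschAbsch.FibreFlat
import Groth.Agent.AbvarAmple.ClosedCover
import Mathlib.AlgebraicGeometry.Morphisms.Flat
import Mathlib.AlgebraicGeometry.Morphisms.Preimmersion
import Mathlib.RingTheory.Flat.TorsionFree
import Mathlib.RingTheory.Valuation.ValuationRing

/-!
Reduced schemes over a valuation ring in which every point generalizes to the generic fibre.
-/

set_option autoImplicit false

universe u

open CategoryTheory CategoryTheory.Limits AlgebraicGeometry

noncomputable section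

namespace Groth.Sga3.SubSpec

theorem flat_of_torsionFree {A B : Type u} [CommRing A] [IsDomain A] [ValuationRing A] [CommRing B] (g : A →+* B)
    (h : ∀ a : A, a ≠ 0 → ∀ b : B, g a * b = 0 → b = 0) : g.Flat := by
  letI := g.toAlgebra
  show Module.Flat A B
  rw [Module.Flat.flat_iff_torsion_eq_bot_of_isBezout, eq_bot_iff]
  rintro b ⟨⟨a, ha⟩, hb⟩
  rw [Submodule.mem_bot]
  exact h a (nonZeroDivisors.ne_zero ha) b hb

/-- A reduced scheme over a valuation ring whose generic fibre is dense in the strong sense is flat. -/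
theorem flat_of_generic {A : Type u} [CommRing A] [IsDomain A] [ValuationRing A] {Z : Scheme.{u}}
    (h : Z ⟶ Spec (CommRingCat.of A)) [IsReduced Z]
    (hgen : ∀ z : Z, ∃ z' : Z, z' ⤳ z ∧ h.base z' = (⟨⊥, Ideal.isPrime_bot⟩ : PrimeSpectrum A)) : Flat h := by
  refine (HasRingHomProperty.iff_of_iSup_eq_top (P := @Flat) (fun W : Z.affineOpens => W)
    (iSup_affineOpens_eq_top Z)).2 fun W => ?_
  let γ := (Scheme.ΓSpecIso (CommRingCat.of A)).inv
  have hflat : (γ ≫ h.appLE ⊤ W.1 le_top).hom.Flat := by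
    refine flat_of_torsionFree _ fun a ha b hb => eq_zero_of_basicOpen_eq_bot b ?_
    rw [eq_bot_iff]
    intro z hz
    obtain ⟨z', hz', hbot⟩ := hgen z
    have hz'b : z' ∈ Z.basicOpen b := hz'.mem_open (Z.basicOpen b).isOpen hz
    have hz'a : z' ∈ Z.basicOpen ((h.appLE ⊤ W.1 le_top) (γ a)) := by
      rw [Scheme.basicOpen_appLE]
      refine ⟨(Z.basicOpen_le b) hz'b, ?_⟩
      show h.base z' ∈ (Spec (CommRingCat.of A)).basicOpen (γ a)
      rw [hbot, basicOpen_eq_of_affine (R := CommRingCat.of A) a]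
      exact fun h' => ha (Ideal.mem_bot.1 h')
    have : z' ∈ Z.basicOpen ((h.appLE ⊤ W.1 le_top) (γ a) * b) := by
      rw [Scheme.basicOpen_mul]; exact ⟨hz'a, hz'b⟩
    rw [show (h.appLE ⊤ W.1 le_top) (γ a) * b = 0 from hb, Scheme.basicOpen_zero] at this
    exact this.elim
  have e : h.appLE ⊤ W.1 le_top = (Scheme.ΓSpecIso (CommRingCat.of A)).hom ≫ γ ≫ h.appLE ⊤ W.1 le_top :=
    (Iso.hom_inv_id_assoc _ _).symm
  rw [e, CommRingCat.hom_comp]
  exact RingHom.Flat.comp (RingHom.Flat.of_bijective (ConcreteCategory.bijective_of_isIso _)) hflat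

/-- A flat preimmersion into a reduced scheme has reduced source. -/
theorem isReduced_of_flat_preimmersion {X Y : Scheme.{u}} (j : X ⟶ Y) [Flat j] [IsPreimmersion j] [IsReduced Y] :
    IsReduced X := by
  haveI : ∀ x : X, _root_.IsReduced (X.presheaf.stalk x) := fun x => by
    have hinj : Function.Injective (j.stalkMap x) := by
      algebraize [(j.stalkMap x).hom]
      have : Module.FaithfullyFlat (Y.presheaf.stalk (j x)) (X.presheaf.stalk x) :=
        @Module.FaithfullyFlat.of_flat_of_isLocalHom _ _ _ _ _ _ _ (Flat.stalkMap j x) (j.toLRSHom.prop x)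
      exact ‹RingHom.FaithfullyFlat _›.injective
    let e := RingEquiv.ofBijective (j.stalkMap x).hom ⟨hinj, j.stalkMap_surjective x⟩
    exact isReduced_of_injective e.symm.toRingHom e.symm.injective
  exact isReduced_of_isReduced_stalk X

/-- A morphism from a flat scheme maps into a closed set as soon as its generic fibre does. -/
theorem mem_of_generic {A : Type u} [CommRing A] [IsDomain A] {P Q : Scheme.{u}}
    (p : P ⟶ Spec (CommRingCat.of A)) [Flat p] (F : P ⟶ Q) {C : Set Q} (hC : IsClosed C)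
    (hgen : ∀ x, p.base x = (⟨⊥, Ideal.isPrime_bot⟩ : PrimeSpectrum A) → F.base x ∈ C) (x : P) :
    F.base x ∈ C := by
  have hsp : (⟨⊥, Ideal.isPrime_bot⟩ : PrimeSpectrum A) ⤳ p.base x := by
    rw [← PrimeSpectrum.le_iff_specializes]
    exact bot_le (a := (p.base x).asIdeal)
  obtain ⟨x', hx', hx'b⟩ := Flat.generalizingMap p hsp
  exact (hx'.map F.continuous).mem_closed hC (hgen x' hx'b)

end Groth.Sga3.SubSpec
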