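import Groth.Agent.Sga3.CommSpread.Adj
import Groth.Agent.Sga3.Solvable.Words
import Groth.Agent.AlgGrp1.Geom
import Groth.Prelude.Def_Red2
import Groth.Prelude.Def_AGF
import Mathlib.AlgebraicGeometry.Morphisms.Flat

/-!
Iterated commutators along binary trees, as morphisms of schemes.
-/

set_option autoImplicit false
set_option backward.isDefEq.respectTransparency false

universe u

open CategoryTheory CategoryTheory.Limits MonoidalCategory CartesianMonoidalCategory MonObj GrpObj AlgebraicGeometry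
open scoped commutatorElement

noncomputable section

namespace Groth.Sga3.SubSpec

open Groth.Sga3.CommSpread

/-- Shapes of iterated commutators. -/
inductive CTree
  | leaf
  | node (a b : CTree)

/-- The derived shapes. -/
def dTree : ℕ → CTree
  | 0 => .leaf
  | n + 1 => .node (dTree n) (dTree n)

/-- The lower central shapes. -/
def lTree : ℕ → CTree
  | 0 => .leaf
  | n + 1 => .node (lTree n) .leaf

variable {B B' : Scheme.{u}} {G X : Over B} [GrpObj G]

/-- The source of an iterated commutator. -/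
def cP (X : Over B) : CTree → Over B
  | .leaf => X
  | .node a b => cP X a ⊗ cP X b

/-- An iterated commutator. -/
def cMap (f : X ⟶ G) : ∀ τ, cP X τ ⟶ G
  | .leaf => f
  | .node a b => (⁅fst (cP X a) (cP X b) ≫ cMap f a, snd (cP X a) (cP X b) ≫ cMap f b⁆ : cP X a ⊗ cP X b ⟶ G)

theorem comp_cMap_node (f : X ⟶ G) (a b : CTree) {T : Over B} (z : T ⟶ cP X (.node a b)) :
    z ≫ cMap f (.node a b) =
      ⁅(z ≫ fst (cP X a) (cP X b)) ≫ cMap f a, (z ≫ snd (cP X a) (cP X b)) ≫ cMap f b⁆ := by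
  simp only [cMap, commutatorElement_def, MonObj.comp_mul, GrpObj.comp_inv, Category.assoc]

omit [GrpObj G] in
theorem prop_cP (Q : MorphismProperty Scheme.{u}) [Q.IsStableUnderComposition] [Q.IsStableUnderBaseChange]
    (h : Q X.hom) : ∀ τ, Q (cP X τ).hom
  | .leaf => h
  | .node a b => Q.comp_mem _ _ (Q.pullback_fst _ _ (prop_cP Q h b)) (prop_cP Q h a)

/-- Iterated commutators factor through a subgroup of a base change. -/
theorem cMap_factor (t : B' ⟶ B) {N : Over B'} [GrpObj N] (i : N ⟶ Red.bc t G) [IsMonHom i] (f : X ⟶ G)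
    (hf : ∀ (W : Over B') (z : push t W ⟶ X), ∃ m : W ⟶ N, m ≫ i = adj t (z ≫ f)) :
    ∀ (τ : CTree) (W : Over B') (z : push t W ⟶ cP X τ),
      ∃ w : W ⟶ cP N τ, (w ≫ cMap (𝟙 N) τ) ≫ i = adj t (z ≫ cMap f τ)
  | .leaf, W, z => by
      obtain ⟨m, hm⟩ := hf W z
      exact ⟨m, (congrArg (· ≫ i) (Category.comp_id m)).trans hm⟩
  | .node a b, W, z => by
      obtain ⟨wa, ha⟩ := cMap_factor t i f hf a W (z ≫ fst (cP X a) (cP X b))
      obtain ⟨wb, hb⟩ := cMap_factor t i f hf b W (z ≫ snd (cP X a) (cP X b))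
      refine ⟨lift wa wb, ?_⟩
      rw [comp_cMap_node, comp_cMap_node, lift_fst, lift_snd, ← adjGrp_apply, map_commutatorElement, adjGrp_apply,
        adjGrp_apply, ← ha, ← hb]
      simp only [commutatorElement_def, MonObj.mul_comp, GrpObj.inv_comp]

/-- Iterated commutators of a subgroup of a base change lift. -/
theorem cMap_lift (t : B' ⟶ B) {N : Over B'} [GrpObj N] (i : N ⟶ Red.bc t G) [IsMonHom i] (f : X ⟶ G)
    (hf : ∀ (W : Over B') (y : W ⟶ N), ∃ z : push t W ⟶ X, adj t (z ≫ f) = y ≫ i) :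
    ∀ (τ : CTree) (W : Over B') (w : W ⟶ cP N τ),
      ∃ z : push t W ⟶ cP X τ, adj t (z ≫ cMap f τ) = (w ≫ cMap (𝟙 N) τ) ≫ i
  | .leaf, W, w => by
      obtain ⟨z, hz⟩ := hf W w
      exact ⟨z, hz.trans (congrArg (· ≫ i) (Category.comp_id w)).symm⟩
  | .node a b, W, w => by
      obtain ⟨za, ha⟩ := cMap_lift t i f hf a W (w ≫ fst (cP N a) (cP N b))
      obtain ⟨zb, hb⟩ := cMap_lift t i f hf b W (w ≫ snd (cP N a) (cP N b))
      refine ⟨lift za zb, ?_⟩
      rw [comp_cMap_node, comp_cMap_node, lift_fst, lift_snd, ← adjGrp_apply, map_commutatorElement, adjGrp_apply,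
        adjGrp_apply, ha, hb]
      simp only [commutatorElement_def, MonObj.mul_comp, GrpObj.inv_comp]

/-- The unit tuple. -/
theorem exists_cUnit (f : X ⟶ G) (hx : ∃ x : 𝟙_ (Over B) ⟶ X, x ≫ f = 1) :
    ∀ τ : CTree, ∃ u : 𝟙_ (Over B) ⟶ cP X τ, u ≫ cMap f τ = 1
  | .leaf => hx
  | .node a b => by
      obtain ⟨ua, ha⟩ := exists_cUnit f hx a
      obtain ⟨ub, hb⟩ := exists_cUnit f hx b
      exact ⟨lift ua ub, by rw [comp_cMap_node, lift_fst, lift_snd, ha, hb, commutatorElement_one_left]⟩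

variable (G)

theorem range_dTree (T : Over B) : ∀ n,
    Set.range (fun x : T ⟶ cP G (dTree n) => x ≫ cMap (𝟙 G) (dTree n)) = (Groth.Sga3.Solvable.dW G n).values G T
  | 0 => rfl
  | n + 1 => by
    rw [Groth.Sga3.Solvable.dW, Groth.Sga3.Solvable.rvalues_comm, ← range_dTree T n]
    ext g
    constructor
    · rintro ⟨x, rfl⟩
      exact ⟨_, ⟨x ≫ fst _ _, rfl⟩, _, ⟨x ≫ snd _ _, rfl⟩, (comp_cMap_node (𝟙 G) _ _ x).symm⟩
    · rintro ⟨_, ⟨y, rfl⟩, _, ⟨z, rfl⟩, rfl⟩
      refine ⟨lift y z, (comp_cMap_node (𝟙 G) (dTree n) (dTree n) (lift y z)).trans ?_⟩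
      rw [lift_fst, lift_snd]

theorem range_lTree (T : Over B) : ∀ n,
    Set.range (fun x : T ⟶ cP G (lTree n) => x ≫ cMap (𝟙 G) (lTree n)) = (Groth.Sga3.Solvable.lW G n).values G T
  | 0 => rfl
  | n + 1 => by
    rw [Groth.Sga3.Solvable.lW, Groth.Sga3.Solvable.rvalues_comm, ← range_lTree T n]
    ext g
    constructor
    · rintro ⟨x, rfl⟩
      exact ⟨_, ⟨x ≫ fst _ _, rfl⟩, _, ⟨x ≫ snd _ _, rfl⟩, (comp_cMap_node (𝟙 G) (lTree n) .leaf x).symm⟩
    · rintro ⟨_, ⟨y, rfl⟩, _, ⟨z, rfl⟩, rfl⟩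
      refine ⟨lift y z, (comp_cMap_node (𝟙 G) (lTree n) .leaf (lift y z)).trans ?_⟩
      rw [lift_fst, lift_snd]
      rfl

theorem forall_values_iff (τ : CTree) :
    cMap (𝟙 G) τ = 1 ↔ ∀ T : Over B, Subgroup.closure (Set.range fun x : T ⟶ cP G τ => x ≫ cMap (𝟙 G) τ) = ⊥ := by
  constructor
  · intro h T
    rw [Subgroup.closure_eq_bot_iff]
    rintro _ ⟨x, rfl⟩
    simp only [h, MonObj.comp_one, Set.mem_singleton_iff]
  · intro h
    have h1 := (Subgroup.closure_eq_bot_iff).1 (h (cP G τ)) ⟨𝟙 _, rfl⟩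
    simpa using h1

theorem isSolvableGrp_iff_cMap : Red.IsSolvableGrp G ↔ ∃ n, cMap (𝟙 G) (dTree n) = 1 := by
  refine exists_congr fun n => ?_
  rw [forall_values_iff]
  refine forall_congr' fun T => ?_
  rw [Groth.Sga3.Solvable.derivedSeries_eq_closure, range_dTree]

theorem isNilpotentGrp_iff_cMap : AGF.IsNilpotentGrp G ↔ ∃ n, cMap (𝟙 G) (lTree n) = 1 := by
  refine exists_congr fun n => ?_
  rw [forall_values_iff]
  refine forall_congr' fun T => ?_
  rw [← Subgroup.lowerCentralSeries_eq_bot_iff_upperCentralSeries_eq_top,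
    Groth.Sga3.Solvable.lowerCentralSeries_eq_closure, range_lTree]

theorem isCommMonObj_iff_cMap : IsCommMonObj G ↔ cMap (𝟙 G) (CTree.node .leaf .leaf) = 1 := by
  constructor
  · intro h
    show ⁅fst G G ≫ 𝟙 G, snd G G ≫ 𝟙 G⁆ = 1
    rw [commutatorElement_eq_one_iff_mul_comm, Category.comp_id, Category.comp_id]
    exact mul_comm _ _
  · intro h
    have h' : fst G G * snd G G = snd G G * fst G G := by
      have h2 : ⁅fst G G ≫ 𝟙 G, snd G G ≫ 𝟙 G⁆ = 1 := h
      rwa [commutatorElement_eq_one_iff_mul_comm, Category.comp_id, Category.comp_id] at h2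
    refine { mul_comm := ?_ }
    rw [Hom.mul_def, Hom.mul_def, lift_fst_snd, Category.id_comp] at h'
    conv_rhs => rw [h']
    congr 1

variable {G}

omit [GrpObj G] in
theorem connectedSpace_cP {K : Type u} [Field K] {X : Over (Spec (CommRingCat.of K))}
    [LocallyOfFiniteType X.hom] [ConnectedSpace X.left] (x : 𝟙_ (Over (Spec (CommRingCat.of K))) ⟶ X) :
    ∀ τ : CTree, ConnectedSpace (cP X τ).left ∧ Nonempty (𝟙_ (Over (Spec (CommRingCat.of K))) ⟶ cP X τ)
  | .leaf => ⟨‹_›, ⟨x⟩⟩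
  | .node a b => by
    obtain ⟨ha, ⟨xa⟩⟩ := connectedSpace_cP x a
    obtain ⟨hb, ⟨xb⟩⟩ := connectedSpace_cP x b
    haveI : LocallyOfFiniteType (cP X a).hom := prop_cP (X := X) @LocallyOfFiniteType ‹_› a
    haveI : LocallyOfFiniteType (cP X b).hom := prop_cP (X := X) @LocallyOfFiniteType ‹_› b
    haveI : GeometricallyConnected (cP X a).hom :=
      Groth.AlgGrp1.geometricallyConnected_of_point _ xa.left (Over.w xa)
    haveI : UniversallyOpen (cP X a).hom := inferInstance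
    exact ⟨inferInstanceAs (ConnectedSpace ↥(pullback (cP X a).hom (cP X b).hom)), ⟨lift xa xb⟩⟩

end Groth.Sga3.SubSpec
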