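import Groth.Agent.Sga3.SubSpec.Closure
import Groth.Agent.Sga3.SubSpec.Tree
import Groth.Agent.Sga3.DerDim.Height
import Groth.Agent.GrpschAbsch.NeutralSet
import Groth.Agent.GrpschAbsch.GrpEtaleRel
import Groth.Agent.Abvar.AlgClosedAux
import Groth.Agent.AlgGrp1.Sub
import Groth.Agent.Agf.SmoothRed
import Groth.Agent.Agf.SubobjGrp
import Groth.Agent.AlgSpBasic.DimZeroSpace
import Groth.Agent.FibreDim.GroupScheme
import Groth.Agent.PropsBasic2.Reduced

/-!
Specialization of smooth connected subgroups over a valuation ring: the closed fibre of the closure contains a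
subgroup of at least the same dimension satisfying the same commutator identities.
-/

set_option autoImplicit false
set_option backward.isDefEq.respectTransparency false

universe u

open CategoryTheory CategoryTheory.Limits MonoidalCategory CartesianMonoidalCategory MonObj GrpObj AlgebraicGeometry
open TopologicalSpace (Closeds)
open Topology

noncomputable section

namespace Groth.Sga3.SubSpec

open Groth.Sga3.CommSpread Groth.Sga3.DerDim

/-- A surjective specializing map does not lower the dimension. -/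
theorem dim_le_of_specializingMap {U V : Scheme.{u}} (f : U → V) (hc : Continuous f) (hs : Function.Surjective f)
    (hsp : SpecializingMap f) : topologicalKrullDim ↥V ≤ topologicalKrullDim ↥U := by
  rw [Groth.AlgSpBasic.topologicalKrullDim_eq_points, Groth.AlgSpBasic.topologicalKrullDim_eq_points]
  refine iSup_le fun l => ?_
  suffices ∀ l : LTSeries V, ∃ l' : LTSeries U, f l'.head = l.head ∧ l'.length = l.length by
    obtain ⟨l', -, hl⟩ := this l
    rw [← hl]
    exact le_iSup (fun p : LTSeries U => (p.length : WithBot ℕ∞)) l'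
  intro l
  induction l using RelSeries.inductionOn with
  | singleton x =>
    obtain ⟨a, ha⟩ := hs x
    exact ⟨RelSeries.singleton _ a, ha, rfl⟩
  | cons p x hx ih =>
    obtain ⟨l', hl', hlen⟩ := ih
    have hsx : f l'.head ⤳ x := by rw [hl']; exact le_of_lt hx
    obtain ⟨a, ha, hfa⟩ := hsp hsx
    have hlt : a < l'.head := by
      refine lt_iff_le_not_ge.mpr ⟨ha, fun h' => (show x < p.head from hx).not_ge ?_⟩
      rw [← hfa, ← hl']
      exact (show a ⤳ l'.head from h').map hc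
    exact ⟨l'.cons a hlt, (congrArg f (RelSeries.head_cons ..)).trans
      (hfa.trans (RelSeries.head_cons ..).symm),
      by rw [RelSeries.cons_length, RelSeries.cons_length, hlen]⟩

theorem unit_fst {B B' : Scheme.{u}} (t : B' ⟶ B) (Q : Over B) [GrpObj Q] (p : B') :
    (pullback.fst Q.hom t).base ((1 : 𝟙_ (Over B') ⟶ Red.bc t Q).left.base p) = η[Q].left.base (t.base p) := by
  rw [← map_one (adjGrp t (𝟙_ (Over B')) Q), adjGrp_apply]
  refine (Scheme.Hom.comp_apply _ _ _).symm.trans ?_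
  rw [adj_left, Hom.one_def, Over.comp_left, Scheme.Hom.comp_apply]
  congr 1

variable {A : Type u} [CommRing A] [IsDomain A] [ValuationRing A]
  {K K' : Type u} [Field K] [IsAlgClosed K] [Field K'] [IsAlgClosed K']

theorem exists_special_sub (Q : Over (Spec (CommRingCat.of A))) [GrpObj Q]
    [LocallyOfFiniteType Q.hom] [QuasiCompact Q.hom] [QuasiSeparated Q.hom]
    (t₁ : Spec (CommRingCat.of K) ⟶ Spec (CommRingCat.of A)) [IsPreimmersion t₁] [Flat t₁]
    (t₀ : Spec (CommRingCat.of K') ⟶ Spec (CommRingCat.of A)) [IsIntegralHom t₀]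
    (hp₁ : ∀ p, t₁.base p = (⟨⊥, Ideal.isPrime_bot⟩ : PrimeSpectrum A))
    (hp₀ : ∀ p, t₀.base p = IsLocalRing.closedPoint A)
    (N : Over (Spec (CommRingCat.of K))) [GrpObj N] (i : N ⟶ Red.bc t₁ Q) [IsMonHom i] [IsClosedImmersion i.left]
    [Smooth N.hom] [ConnectedSpace N.left] :
    ∃ (H : Over (Spec (CommRingCat.of K'))) (_ : GrpObj H) (d : H ⟶ Red.bc t₀ Q),
      IsMonHom d ∧ IsClosedImmersion d.left ∧ Smooth H.hom ∧ ConnectedSpace H.left ∧
      topologicalKrullDim ↥N.left ≤ topologicalKrullDim ↥H.left ∧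
      ∀ τ : CTree, cMap (𝟙 N) τ = 1 → cMap (𝟙 H) τ = 1 := by
  let Q₁ := Red.bc t₁ Q
  let Q₀ := Red.bc t₀ Q
  haveI : LocallyOfFiniteType Q₁.hom := inferInstanceAs (LocallyOfFiniteType (pullback.snd Q.hom t₁))
  haveI : LocallyOfFiniteType Q₀.hom := inferInstanceAs (LocallyOfFiniteType (pullback.snd Q.hom t₀))
  haveI : QuasiCompact Q₁.hom := inferInstanceAs (QuasiCompact (pullback.snd Q.hom t₁))
  haveI : QuasiCompact Q₀.hom := inferInstanceAs (QuasiCompact (pullback.snd Q.hom t₀))
  haveI : CompactSpace Q₁.left := QuasiCompact.compactSpace_of_compactSpace Q₁.hom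
  haveI : CompactSpace Q₀.left := QuasiCompact.compactSpace_of_compactSpace Q₀.hom
  haveI := Groth.AlgGrp1.isSeparated_grpObj Q₁
  haveI := Groth.AlgGrp1.isSeparated_grpObj Q₀
  haveI : CompactSpace N.left := i.left.isClosedEmbedding.compactSpace
  haveI : IsReduced N.left := Groth.Agf.isReduced_of_smooth N.hom
  let j₁ : Q₁.left ⟶ Q.left := pullback.fst Q.hom t₁
  let j₀ : Q₀.left ⟶ Q.left := pullback.fst Q.hom t₀
  let iQ : N.left ⟶ Q.left := i.left ≫ j₁
  haveI : QuasiCompact (iQ ≫ Q.hom) := (quasiCompact_iff_compactSpace _).2 ‹CompactSpace ↥N.left›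
  haveI : QuasiCompact iQ := QuasiCompact.of_comp iQ Q.hom
  have hbot : ∀ b, Q.hom.base (j₁.base b) = (⟨⊥, Ideal.isPrime_bot⟩ : PrimeSpectrum A) := fun b => by
    rw [← Scheme.Hom.comp_apply, show j₁ ≫ Q.hom = pullback.snd Q.hom t₁ ≫ t₁ from pullback.condition,
      Scheme.Hom.comp_apply]
    exact hp₁ _
  have hj₁ : ∀ q, Q.hom.base q = (⟨⊥, Ideal.isPrime_bot⟩ : PrimeSpectrum A) → ∃ b, j₁.base b = q := fun q hq => by
    obtain ⟨b, hb, -⟩ := Scheme.exists_preimage_of_isPullback (IsPullback.of_hasPullback Q.hom t₁) q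
      (IsLocalRing.closedPoint _) (hq.trans (hp₁ _).symm)
    exact ⟨b, hb⟩
  have hpull : ∀ (Y : Set Q₁.left), IsClosed Y → ∀ q ∈ closure (j₁.base '' Y),
      Q.hom.base q = (⟨⊥, Ideal.isPrime_bot⟩ : PrimeSpectrum A) → q ∈ j₁.base '' Y := fun Y hY q hq hqb => by
    obtain ⟨b, rfl⟩ := hj₁ q hqb
    refine ⟨b, hY.closure_subset ?_, rfl⟩
    rw [j₁.isEmbedding.isInducing.closure_eq_preimage_closure_image]
    exact hq
  have hiQ : Set.range iQ.base = j₁.base '' Set.range i.left.base := by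
    rw [← Set.range_comp]; rfl
  -- the reduced closure
  let Zset : Closeds Q.left := ⟨closure (Set.range iQ.base), isClosed_closure⟩
  let J := Scheme.IdealSheafData.vanishingIdeal Zset
  let Zo : Over (Spec (CommRingCat.of A)) := Over.mk (J.subschemeι ≫ Q.hom)
  let ζ : Zo ⟶ Q := Over.homMk J.subschemeι rfl
  haveI : IsClosedImmersion ζ.left := inferInstanceAs (IsClosedImmersion J.subschemeι)
  haveI : IsReduced Zo.left := Groth.PropsBasic2.isReduced_vanishingIdeal_subscheme Zset
  haveI : LocallyOfFiniteType Zo.hom := inferInstanceAs (LocallyOfFiniteType (J.subschemeι ≫ Q.hom))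
  have hζr : Set.range ζ.left.base = closure (Set.range iQ.base) := by
    show Set.range J.subschemeι.base = _
    rw [J.range_subschemeι, Scheme.IdealSheafData.coe_support_vanishingIdeal]
    rfl
  haveI : Flat Zo.hom := flat_of_generic Zo.hom fun z => by
    obtain ⟨v, hv⟩ := Groth.DescentBase.exists_specializes_of_mem_closure_range iQ
      (hζr.le ⟨z, rfl⟩)
    obtain ⟨z', hz'⟩ := hζr.ge (subset_closure ⟨v, rfl⟩)
    refine ⟨z', ζ.left.isEmbedding.isInducing.specializes_iff.1 (hz' ▸ hv), ?_⟩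
    rw [show Zo.hom = ζ.left ≫ Q.hom from rfl, Scheme.Hom.comp_apply, hz']
    exact hbot _
  obtain ⟨mN, hmN⟩ : ∃ m : Red.bc t₁ Zo ⟶ N, m ≫ i = (Over.pullback t₁).map ζ := by
    haveI : IsReduced (Red.bc t₁ Zo).left := isReduced_of_flat_preimmersion (pullback.fst Zo.hom t₁)
    refine Groth.AlgGrp1.exists_factor_of_range_subset i _ ?_
    rintro _ ⟨w, rfl⟩
    have hw : j₁.base (((Over.pullback t₁).map ζ).left.base w) = ζ.left.base ((pullback.fst Zo.hom t₁).base w) := by
      rw [← Scheme.Hom.comp_apply, ← Scheme.Hom.comp_apply]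
      exact congr(($((Groth.GrpschAbsch.FibreFlat.isPullback_map t₁ ζ).w)).base w).symm
    obtain ⟨b, hb, hbe⟩ := hpull _ i.left.isClosedEmbedding.isClosed_range _
      (hiQ ▸ hζr.le ⟨_, hw.symm⟩) (hbot _)
    exact j₁.isEmbedding.injective hbe ▸ hb
  have hfN : ∀ (W : Over (Spec (CommRingCat.of K))) (z : push t₁ W ⟶ Zo), ∃ m : W ⟶ N, m ≫ i = adj t₁ (z ≫ ζ) :=
    fun W z => ⟨adj t₁ z ≫ mN, by rw [Category.assoc, hmN, adj_comp]⟩
  -- morphisms out of flat schemes
  have gen : ∀ (P : Over (Spec (CommRingCat.of A))) [Flat P.hom] (F : P ⟶ Q) (Y : Set Q₁.left) (C : Set Q.left),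
      IsClosed C → Set.range ((Over.pullback t₁).map F).left.base ⊆ Y → j₁.base '' Y ⊆ C →
      ∀ (W : Over (Spec (CommRingCat.of K'))) (z : push t₀ W ⟶ P),
        Set.range (adj t₀ (z ≫ F)).left.base ⊆ j₀.base ⁻¹' C := by
    intro P _ F Y C hC hY hYC W z
    rintro _ ⟨w, rfl⟩
    show j₀.base _ ∈ C
    rw [← Scheme.Hom.comp_apply, adj_left, Over.comp_left, Scheme.Hom.comp_apply]
    refine mem_of_generic P.hom F.left hC (fun x hx => ?_) _
    obtain ⟨b, hb, -⟩ := Scheme.exists_preimage_of_isPullback (IsPullback.of_hasPullback P.hom t₁) x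
      (IsLocalRing.closedPoint _) (hx.trans (hp₁ _).symm)
    refine hYC ⟨_, hY ⟨b, rfl⟩, ?_⟩
    rw [← Scheme.Hom.comp_apply, ← hb, ← Scheme.Hom.comp_apply]
    exact congr(($((Groth.GrpschAbsch.FibreFlat.isPullback_map t₁ F).w)).base b).symm
  have genN : ∀ (P : Over (Spec (CommRingCat.of A))) [Flat P.hom] (F : P ⟶ Q),
      (∃ m : Red.bc t₁ P ⟶ N, m ≫ i = adj t₁ ((adj t₁).symm (𝟙 _) ≫ F)) →
      ∀ (W : Over (Spec (CommRingCat.of K'))) (z : push t₀ W ⟶ P),
        Set.range (adj t₀ (z ≫ F)).left.base ⊆ j₀.base ⁻¹' closure (Set.range iQ.base) := by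
    intro P _ F ⟨m, hm⟩
    refine gen P F (Set.range i.left.base) _ isClosed_closure ?_ (hiQ ▸ subset_closure)
    rw [adj_comp, Equiv.apply_symm_apply, Category.id_comp] at hm
    rintro _ ⟨a, rfl⟩
    exact ⟨m.left.base a, (Scheme.Hom.comp_apply _ _ _).symm.trans congr(($hm).left.base a)⟩
  -- the subgroup of the closed fibre
  let Eset : Closeds Q₀.left := ⟨j₀.base ⁻¹' closure (Set.range iQ.base), isClosed_closure.preimage j₀.continuous⟩
  let J' := Scheme.IdealSheafData.vanishingIdeal Eset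
  let R : Over (Spec (CommRingCat.of K')) := Over.mk (J'.subschemeι ≫ Q₀.hom)
  let r : R ⟶ Q₀ := Over.homMk J'.subschemeι rfl
  haveI : IsClosedImmersion r.left := inferInstanceAs (IsClosedImmersion J'.subschemeι)
  haveI : Mono r := Over.mono_of_mono_left r
  haveI : IsReduced R.left := Groth.PropsBasic2.isReduced_vanishingIdeal_subscheme Eset
  haveI : LocallyOfFiniteType R.hom := inferInstanceAs (LocallyOfFiniteType (J'.subschemeι ≫ Q₀.hom))
  haveI : GeometricallyReduced R.hom := Groth.Abvar.geometricallyReduced_of_isAlgClosed R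
  have hrr : Set.range r.left.base = j₀.base ⁻¹' closure (Set.range iQ.base) := by
    show Set.range J'.subschemeι.base = _
    rw [J'.range_subschemeι, Scheme.IdealSheafData.coe_support_vanishingIdeal]
    rfl
  obtain ⟨ζR, hζR⟩ : ∃ z : push t₀ R ⟶ Zo, z ≫ ζ = (adj t₀).symm r := by
    haveI : IsReduced (push t₀ R).left := ‹IsReduced R.left›
    refine Groth.AlgGrp1.exists_factor_of_range_subset ζ _ ?_
    rintro _ ⟨a, rfl⟩
    rw [hζr]
    refine Eq.mpr ?_ (hrr.le ⟨a, rfl⟩)
    rw [adj_symm_left, Scheme.Hom.comp_apply]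
    rfl
  have hfR : ∀ (W : Over (Spec (CommRingCat.of K'))) (y : W ⟶ R),
      ∃ z : push t₀ W ⟶ Zo, adj t₀ (z ≫ ζ) = y ≫ r := fun W y =>
    ⟨(adj t₀).symm (y ≫ adj t₀ ζR), by
      rw [adj_comp, Equiv.apply_symm_apply, Category.assoc, ← adj_comp, hζR, Equiv.apply_symm_apply]⟩
  have factor : ∀ {W : Over (Spec (CommRingCat.of K'))} [IsReduced W.left] (g : W ⟶ Q₀),
      Set.range g.left.base ⊆ j₀.base ⁻¹' closure (Set.range iQ.base) → ∃ z : W ⟶ R, z ≫ r = g :=
    fun g hg => Groth.AlgGrp1.exists_factor_of_range_subset r g (hg.trans hrr.ge)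
  haveI : IsReduced (R ⊗ R).left := Groth.AlgGrp1.isReduced_tensorObj R R
  haveI : IsReduced (𝟙_ (Over (Spec (CommRingCat.of K')))).left :=
    inferInstanceAs (IsReduced (Spec (CommRingCat.of K')))
  obtain ⟨z₁, hz₁⟩ := factor ((fst R R ≫ r) * (snd R R ≫ r)) (by
    obtain ⟨za, ha⟩ := hfR (R ⊗ R) (fst R R)
    obtain ⟨zb, hb⟩ := hfR (R ⊗ R) (snd R R)
    rw [← ha, ← hb, ← adjGrp_apply, ← adjGrp_apply, ← map_mul, adjGrp_apply,
      show (za ≫ ζ) * (zb ≫ ζ) = lift za zb ≫ ((fst Zo Zo ≫ ζ) * (snd Zo Zo ≫ ζ)) by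
        rw [MonObj.comp_mul, lift_fst_assoc, lift_snd_assoc]]
    haveI : Flat (Zo ⊗ Zo).hom := inferInstanceAs (Flat (pullback.fst Zo.hom Zo.hom ≫ Zo.hom))
    refine genN (Zo ⊗ Zo) _ ?_ _ _
    obtain ⟨ma, hma⟩ := hfN _ ((adj t₁).symm (𝟙 _) ≫ fst Zo Zo)
    obtain ⟨mb, hmb⟩ := hfN _ ((adj t₁).symm (𝟙 _) ≫ snd Zo Zo)
    refine ⟨ma * mb, ?_⟩
    rw [MonObj.mul_comp, hma, hmb, MonObj.comp_mul, ← adjGrp_apply, ← adjGrp_apply, ← adjGrp_apply, ← map_mul]
    simp only [Category.assoc])
  obtain ⟨z₂, hz₂⟩ := factor r⁻¹ (by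
    obtain ⟨za, ha⟩ := hfR R (𝟙 R)
    rw [Category.id_comp] at ha
    rw [← ha, ← adjGrp_apply, ← map_inv, adjGrp_apply, ← GrpObj.comp_inv]
    refine genN Zo _ ?_ _ _
    obtain ⟨ma, hma⟩ := hfN _ ((adj t₁).symm (𝟙 _))
    exact ⟨ma⁻¹, by rw [GrpObj.inv_comp, hma, GrpObj.comp_inv, ← adjGrp_apply, ← adjGrp_apply, map_inv]⟩)
  obtain ⟨z₀, hz₀⟩ := factor (1 : 𝟙_ (Over (Spec (CommRingCat.of K'))) ⟶ Q₀) (by
    rw [← map_one (adjGrp t₀ _ Q), adjGrp_apply, Hom.one_def]
    haveI : Flat (𝟙_ (Over (Spec (CommRingCat.of A)))).hom := inferInstanceAs (Flat (𝟙 (Spec (CommRingCat.of A))))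
    refine genN (𝟙_ _) η[Q] ⟨1, ?_⟩ _ _
    rw [MonObj.one_comp, show (adj t₁).symm (𝟙 _) ≫ η[Q] = (1 : push t₁ _ ⟶ Q) by
      rw [Hom.one_def]; exact congrArg (· ≫ η[Q]) (toUnit_unique _ _), ← adjGrp_apply, map_one])
  obtain ⟨grpR, hmonR⟩ := Groth.Agf.exists_grpObj_of_subgroup r (fun T g => ∃ z : T ⟶ R, z ≫ r = g)
    (fun T g => Iff.rfl)
    (fun T => ⟨toUnit T ≫ z₀, by rw [Category.assoc, hz₀, MonObj.comp_one]⟩)
    (fun T u v ⟨a, ha⟩ ⟨b, hb⟩ => ⟨lift a b ≫ z₁, by
      rw [Category.assoc, hz₁, MonObj.comp_mul, lift_fst_assoc, lift_snd_assoc, ha, hb]⟩)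
    (fun T u ⟨a, ha⟩ => ⟨a ≫ z₂, by rw [Category.assoc, hz₂, GrpObj.comp_inv, ha]⟩)
  haveI : Smooth R.hom := Groth.GrpschAbsch.smooth_of_geometricallyReduced R
  obtain ⟨H, _, iH, _, _, hiHr, _⟩ := Groth.GrpschAbsch.NeutralSet.exists_neutral_openSubgroup R
  haveI : Smooth H.hom := by rw [← Over.w iH]; infer_instance
  haveI : IsClosedImmersion iH.left :=
    IsClosedImmersion.of_isPreimmersion _ (by rw [hiHr]; exact isClosed_connectedComponent)
  let d : H ⟶ Q₀ := iH ≫ r
  haveI : IsClosedImmersion d.left := inferInstanceAs (IsClosedImmersion (iH.left ≫ r.left))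
  haveI : Mono d := Over.mono_of_mono_left d
  refine ⟨H, inferInstance, d, inferInstance, inferInstance, inferInstance, inferInstance, ?_, ?_⟩
  · -- dimension
    let eR := η[R].left.base (IsLocalRing.closedPoint K')
    let eH := η[H].left.base (IsLocalRing.closedPoint K')
    have hdimRH : topologicalKrullDim ↥R.left = topologicalKrullDim ↥H.left := by
      rw [← Groth.FibreDim.localDim_eq_dim_of_grpObj R (iH.left.base eH),
        ← Groth.FibreDim.localDim_eq_dim_of_grpObj H eH,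
        Groth.FibreDim.localDim_eq_of_isOpenEmbedding iH.left.isOpenEmbedding eH]
    obtain ⟨n, hn⟩ := Groth.FibreDim.exists_dim_eq_nat H
    haveI : IsIntegralHom (ζR.left ≫ ζ.left) := by
      rw [← Over.comp_left, hζR, adj_symm_left]
      infer_instance
    haveI : IsIntegralHom ζR.left := IsIntegralHom.of_comp ζR.left ζ.left
    have hζRapp : ∀ a, ζ.left.base (ζR.left.base a) = j₀.base (r.left.base a) := fun a => by
      refine (Scheme.Hom.comp_apply _ _ _).symm.trans ?_
      rw [← Over.comp_left, hζR, adj_symm_left, Scheme.Hom.comp_apply]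
      rfl
    have hcl : ∀ a, Zo.hom.base (ζR.left.base a) = IsLocalRing.closedPoint A := fun a => by
      rw [show Zo.hom = ζ.left ≫ Q.hom from rfl, Scheme.Hom.comp_apply, hζRapp, ← Scheme.Hom.comp_apply,
        show j₀ ≫ Q.hom = pullback.snd Q.hom t₀ ≫ t₀ from pullback.condition, Scheme.Hom.comp_apply]
      exact hp₀ _
    let c : Spec (CommRingCat.of A) := IsLocalRing.closedPoint A
    let F : R.left → Zo.hom.fiber c := toFib Zo.hom (c := c) ζR.left.base hcl
    have hF : ∀ a, (Zo.hom.fiberι c).base (F a) = ζR.left.base a := fiberι_toFib Zo.hom _ hcl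
    have hfib : topologicalKrullDim ↥(Zo.hom.fiber c) ≤ topologicalKrullDim ↥R.left := by
      refine dim_le_of_specializingMap F ((Zo.hom.fiberHomeo c).symm.continuous.comp
        (ζR.left.continuous.subtype_mk hcl)) (fun w => ?_) (fun a w hw => ?_)
      · obtain ⟨b, hb, -⟩ := Scheme.exists_preimage_of_isPullback (IsPullback.of_hasPullback Q.hom t₀)
          (ζ.left.base ((Zo.hom.fiberι c).base w)) (IsLocalRing.closedPoint K')
          ((Scheme.Hom.comp_apply _ _ _).symm.trans ((Groth.FibreDim.apply_fiberι Zo.hom c w).trans (hp₀ _).symm))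
        obtain ⟨a, ha⟩ := hrr.ge (show j₀.base b ∈ closure (Set.range iQ.base) from hb ▸ hζr.le ⟨_, rfl⟩)
        refine ⟨a, (Zo.hom.fiberι c).isEmbedding.injective (ζ.left.isEmbedding.injective ?_)⟩
        rw [hF, hζRapp, ha]
        exact hb
      · have h' : ζR.left.base a ⤳ (Zo.hom.fiberι c).base w := hF a ▸ hw.map (Zo.hom.fiberι c).continuous
        obtain ⟨a', ha', hfa⟩ := ζR.left.isClosedMap.specializingMap h'
        exact ⟨a', ha', (Zo.hom.fiberι c).isEmbedding.injective ((hF a').trans hfa)⟩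
    have hz₀dim : FlatMor.fibreDimAt Zo.hom (ζR.left.base eR) ≤ n := by
      refine (Groth.SpectralTopology.localDim_le_dim _).trans ?_
      rw [hcl eR, ← hn, ← hdimRH]
      exact hfib
    obtain ⟨W, hW, hWn⟩ := Groth.FibreDim.exists_open_nhd_height_le Zo.hom _ n hz₀dim
    let eN := η[N].left.base (IsLocalRing.closedPoint K)
    obtain ⟨ξ, hξ, hξdim⟩ := Groth.FibreDim.exists_height_eq_localDim (k := K) N.hom eN
    rw [Groth.FibreDim.localDim_eq_dim_of_grpObj N eN] at hξdim
    obtain ⟨νN, hνN⟩ : ∃ z : push t₁ N ⟶ Zo, z ≫ ζ = (adj t₁).symm i := by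
      haveI : IsReduced (push t₁ N).left := ‹IsReduced N.left›
      refine Groth.AlgGrp1.exists_factor_of_range_subset ζ _ ?_
      rintro _ ⟨a, rfl⟩
      rw [hζr, adj_symm_left]
      exact subset_closure ⟨a, rfl⟩
    have hν : ∀ a, ζ.left.base (νN.left.base a) = iQ.base a := fun a => by
      refine (Scheme.Hom.comp_apply _ _ _).symm.trans ?_
      rw [← Over.comp_left, hνN, adj_symm_left]
      rfl
    have hνbot : ∀ a, Zo.hom.base (νN.left.base a) = (⟨⊥, Ideal.isPrime_bot⟩ : PrimeSpectrum A) := fun a => by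
      rw [show Zo.hom = ζ.left ≫ Q.hom from rfl, Scheme.Hom.comp_apply, hν]
      exact hbot _
    have he₁ : iQ.base eN = η[Q].left.base (t₁.base (IsLocalRing.closedPoint K)) := by
      show (i.left ≫ j₁).base eN = _
      rw [Scheme.Hom.comp_apply, ← unit_fst t₁ Q]
      congr 1
      refine (Scheme.Hom.comp_apply _ _ _).symm.trans ?_
      rw [← Over.comp_left, IsMonHom.one_hom, Hom.one_def, toUnit_unique (toUnit _) (𝟙 _), Category.id_comp]
    have he₀ : j₀.base (r.left.base eR) = η[Q].left.base (t₀.base (IsLocalRing.closedPoint K')) := by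
      rw [← unit_fst t₀ Q]
      congr 1
      refine (Scheme.Hom.comp_apply _ _ _).symm.trans ?_
      rw [← Over.comp_left, IsMonHom.one_hom, Hom.one_def, toUnit_unique (toUnit _) (𝟙 _), Category.id_comp]
    have hspec : νN.left.base ξ ⤳ ζR.left.base eR := by
      refine ζ.left.isEmbedding.isInducing.specializes_iff.1 ?_
      rw [hν, hζRapp, he₀, hp₀]
      refine (hξ.map iQ.continuous).trans ?_
      rw [he₁, hp₁]
      exact (IsLocalRing.specializes_closedPoint _).map η[Q].left.continuous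
    let E := toFib Zo.hom (c := (⟨⊥, Ideal.isPrime_bot⟩ : PrimeSpectrum A)) νN.left.base hνbot
    have hE : IsEmbedding E := by
      refine IsEmbedding.of_comp ((Zo.hom.fiberHomeo _).symm.continuous.comp
        (νN.left.continuous.subtype_mk hνbot)) (Zo.hom.fiberι _).continuous ?_
      rw [Function.comp_def, funext (fiberι_toFib Zo.hom νN.left.base hνbot)]
      refine IsEmbedding.of_comp νN.left.continuous ζ.left.continuous ?_
      rw [Function.comp_def, funext hν]
      exact (i.left ≫ j₁).isEmbedding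
    rw [← hξdim, hn]
    refine WithBot.coe_le_coe.2 ((Order.height_le_height_apply_of_strictMono E
      (strictMono_of_isEmbedding E hE) ξ).trans (hWn _ _ ?_))
    rw [fiberι_toFib Zo.hom νN.left.base hνbot]
    exact hspec.mem_open W.isOpen hW
  · -- identities
    intro τ hτ
    let iU : Spec (CommRingCat.of K) ⟶ Q.left := t₁ ≫ η[Q].left
    haveI : QuasiCompact (iU ≫ Q.hom) := (quasiCompact_iff_compactSpace _).2 inferInstance
    haveI : QuasiCompact iU := QuasiCompact.of_comp iU Q.hom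
    let C := closure (Set.range iU.base)
    let Uset : Closeds Q₀.left := ⟨j₀.base ⁻¹' C, isClosed_closure.preimage j₀.continuous⟩
    let J'' := Scheme.IdealSheafData.vanishingIdeal Uset
    have hUr : Set.range J''.subschemeι.base = j₀.base ⁻¹' C := by
      rw [J''.range_subschemeι, Scheme.IdealSheafData.coe_support_vanishingIdeal]
      rfl
    haveI : CompactSpace J''.subscheme := J''.subschemeι.isClosedEmbedding.compactSpace
    let e₁ : Q₁.left := (1 : 𝟙_ (Over (Spec (CommRingCat.of K))) ⟶ Q₁).left.base (IsLocalRing.closedPoint K)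
    have hj₁e : j₁.base e₁ = iU.base (IsLocalRing.closedPoint K) :=
      (unit_fst t₁ Q _).trans (Scheme.Hom.comp_apply _ _ _).symm
    have he₁cl : IsClosed ({e₁} : Set Q₁.left) := by
      haveI : IsClosedImmersion (1 : 𝟙_ (Over (Spec (CommRingCat.of K))) ⟶ Q₁).left := by
        haveI : IsClosedImmersion ((1 : 𝟙_ (Over (Spec (CommRingCat.of K))) ⟶ Q₁).left ≫ Q₁.hom) := by
          rw [Over.w]; exact inferInstanceAs (IsClosedImmersion (𝟙 _))
        exact IsClosedImmersion.of_comp _ Q₁.hom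
      have hr1 : Set.range (1 : 𝟙_ (Over (Spec (CommRingCat.of K))) ⟶ Q₁).left.base = {e₁} := by
        refine Set.eq_singleton_iff_unique_mem.2 ⟨⟨_, rfl⟩, ?_⟩
        rintro _ ⟨p, rfl⟩
        rw [Subsingleton.elim (α := PrimeSpectrum K) p (IsLocalRing.closedPoint K)]
      exact hr1 ▸ (1 : 𝟙_ (Over (Spec (CommRingCat.of K))) ⟶ Q₁).left.isClosedEmbedding.isClosed_range
    have hUicl : ∀ q ∈ closure (Set.range iU.base), Q.hom.base q = (⟨⊥, Ideal.isPrime_bot⟩ : PrimeSpectrum A) →
        q ∈ Set.range iU.base := by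
      intro q hq hqb
      have hsub : Set.range iU.base ⊆ j₁.base '' {e₁} := by
        rintro _ ⟨p, rfl⟩
        rw [Subsingleton.elim (α := PrimeSpectrum K) p (IsLocalRing.closedPoint K)]
        exact ⟨e₁, rfl, hj₁e⟩
      obtain ⟨b, rfl, rfl⟩ := hpull _ he₁cl q (closure_mono hsub hq) hqb
      exact ⟨_, hj₁e.symm⟩
    have hU0 : topologicalKrullDim ↥J''.subscheme ≤ 0 := by
      rw [Groth.Variety2.Dim.dim_eq_iSup_height]
      refine iSup_le fun x => WithBot.coe_le_coe.2 ?_
      haveI : IsIntegralHom (J''.subschemeι ≫ j₀) := inferInstance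
      refine height_le_of_closure Q.hom iU ?_ (fun p => ?_) hUicl (n := 0) (fun p => ?_)
        (J''.subschemeι ≫ j₀) (fun u => ?_) ?_ x
      · haveI : Subsingleton (Spec (CommRingCat.of K)) := inferInstanceAs (Subsingleton (PrimeSpectrum K))
        exact IsEmbedding.of_subsingleton _
      · rw [← Scheme.Hom.comp_apply, show iU ≫ Q.hom = t₁ by
          simp only [iU, Category.assoc, Over.w η[Q]]; exact Category.comp_id _]
        exact hp₁ _
      · refine (Order.height_eq_zero.2 fun b _ => ?_).le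
        obtain rfl : p = b := Subsingleton.elim (α := PrimeSpectrum K) p b
        exact le_rfl
      · rw [← Scheme.Hom.comp_apply, Category.assoc,
          show j₀ ≫ Q.hom = pullback.snd Q.hom t₀ ≫ t₀ from pullback.condition, ← Category.assoc,
          Scheme.Hom.comp_apply]
        exact hp₀ _
      · rintro _ ⟨u, rfl⟩
        rw [Scheme.Hom.comp_apply]
        exact hUr.le ⟨u, rfl⟩
    haveI : LocallyOfFiniteType (J''.subschemeι ≫ Q₀.hom) := inferInstance
    haveI : Finite J''.subscheme := Groth.AlgSpBasic.finite_of_dim_zero (J''.subschemeι ≫ Q₀.hom) hU0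
    haveI : T1Space J''.subscheme := ⟨fun x => closure_subset_iff_isClosed.1 fun y hy =>
      (Groth.PropsBasic.ZD.eq_of_specializes_of_dim_le_zero hU0 x y (specializes_iff_mem_closure.2 hy)).symm⟩
    let P := cP H τ
    haveI : Smooth P.hom := prop_cP (X := H) @Smooth ‹Smooth H.hom› τ
    haveI : IsReduced P.left := Groth.Agf.isReduced_of_smooth P.hom
    obtain ⟨hPc, -⟩ := connectedSpace_cP η[H] τ
    let m : P ⟶ Q₀ := cMap (𝟙 H) τ ≫ d
    obtain ⟨z, hz⟩ := cMap_lift t₀ d ζ (fun W y => by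
      obtain ⟨z, hz⟩ := hfR W (y ≫ iH)
      exact ⟨z, by rw [hz, Category.assoc]⟩) τ P (𝟙 P)
    rw [Category.id_comp] at hz
    haveI : Flat (cP Zo τ).hom := prop_cP (X := Zo) @Flat ‹Flat Zo.hom› τ
    have hm : Set.range m.left.base ⊆ j₀.base ⁻¹' C := by
      show Set.range (cMap (𝟙 H) τ ≫ d).left.base ⊆ _
      rw [← hz]
      refine gen (cP Zo τ) (cMap ζ τ) {e₁} C isClosed_closure ?_ ?_ P z
      · obtain ⟨w, hw⟩ := cMap_factor t₁ i ζ hfN τ _ ((adj t₁).symm (𝟙 _))
        rw [hτ, MonObj.comp_one, MonObj.one_comp, adj_comp, Equiv.apply_symm_apply, Category.id_comp] at hw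
        rintro _ ⟨a, rfl⟩
        rw [← hw, Hom.one_def, Over.comp_left, Scheme.Hom.comp_apply]
        show _ = e₁
        rw [Subsingleton.elim (α := PrimeSpectrum K) ((toUnit (Red.bc t₁ (cP Zo τ))).left.base a)
          (IsLocalRing.closedPoint K)]
        show _ = (1 : 𝟙_ (Over (Spec (CommRingCat.of K))) ⟶ Q₁).left.base (IsLocalRing.closedPoint K)
        rw [Hom.one_def, toUnit_unique (toUnit _) (𝟙 _), Category.id_comp]
      · rintro _ ⟨_, rfl, rfl⟩
        exact subset_closure ⟨_, hj₁e.symm⟩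
    let U : Over (Spec (CommRingCat.of K')) := Over.mk (J''.subschemeι ≫ Q₀.hom)
    let uι : U ⟶ Q₀ := Over.homMk J''.subschemeι rfl
    haveI : IsClosedImmersion uι.left := inferInstanceAs (IsClosedImmersion J''.subschemeι)
    obtain ⟨g, hg⟩ := Groth.AlgGrp1.exists_factor_of_range_subset uι m (hm.trans hUr.ge)
    haveI : Finite U.left := ‹Finite J''.subscheme›
    haveI : T1Space U.left := ‹T1Space J''.subscheme›
    haveI : PreconnectedSpace P.left := hPc.toPreconnectedSpace
    obtain ⟨p₀, hp₀'⟩ := exists_cUnit (G := H) (𝟙 H) ⟨1, Category.comp_id _⟩ τ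
    let x₀ := p₀.left.base (IsLocalRing.closedPoint K')
    have hconst : ∀ x, g.left.base x = g.left.base x₀ := fun x =>
      PreconnectedSpace.constant inferInstance g.left.continuous
    have hm1 : p₀ ≫ m = 1 := by
      show p₀ ≫ cMap (𝟙 H) τ ≫ d = 1
      rw [reassoc_of% hp₀', MonObj.one_comp]
    haveI : IsClosedImmersion (η[Q₀]).left := by
      haveI : IsClosedImmersion ((η[Q₀]).left ≫ Q₀.hom) := by
        rw [Over.w]; exact inferInstanceAs (IsClosedImmersion (𝟙 _))
      exact IsClosedImmersion.of_comp _ Q₀.hom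
    obtain ⟨z', hz'⟩ := Groth.AlgGrp1.exists_factor_of_range_subset (η[Q₀]) m (by
      rintro _ ⟨x, rfl⟩
      refine ⟨IsLocalRing.closedPoint K', ?_⟩
      rw [← hg, Over.comp_left, Scheme.Hom.comp_apply, hconst x, ← Scheme.Hom.comp_apply, ← Over.comp_left, hg,
        ← Scheme.Hom.comp_apply, ← Over.comp_left, hm1, Hom.one_def, toUnit_unique (toUnit _) (𝟙 _),
        Category.id_comp])
    have hmone : m = 1 := by rw [← hz', toUnit_unique z' (toUnit _), Hom.one_def]
    rw [← cancel_mono d, MonObj.one_comp]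
    exact hmone

end Groth.Sga3.SubSpec
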